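import Cfsg.Agent.Lib.H9.HN.TCPC.Chk
set_option Elab.async false
set_option autoImplicit false
set_option maxRecDepth 100000
set_option linter.all false
namespace H9.HN.TCPC
open H35.TC
theorem l_0 : cntB liveP 12 0 = 3992 := by
  have h : Nat.beq (cntB liveP 12 0) 3992 = true := by decide +kernel
  exact eqOfBeq h
theorem l_1 : cntB liveP 12 4096 = 3924 := by
  have h : Nat.beq (cntB liveP 12 4096) 3924 = true := by decide +kernel
  exact eqOfBeq h
theorem l_2 : cntB liveP 12 8192 = 3957 := by
  have h : Nat.beq (cntB liveP 12 8192) 3957 = true := by decide +kernel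
  exact eqOfBeq h
theorem l_3 : cntB liveP 12 12288 = 3987 := by
  have h : Nat.beq (cntB liveP 12 12288) 3987 = true := by decide +kernel
  exact eqOfBeq h
theorem l_4 : cntB liveP 12 16384 = 3978 := by
  have h : Nat.beq (cntB liveP 12 16384) 3978 = true := by decide +kernel
  exact eqOfBeq h
theorem l_5 : cntB liveP 12 20480 = 4000 := by
  have h : Nat.beq (cntB liveP 12 20480) 4000 = true := by decide +kernel
  exact eqOfBeq h
theorem l_6 : cntB liveP 12 24576 = 4009 := by
  have h : Nat.beq (cntB liveP 12 24576) 4009 = true := by decide +kernel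
  exact eqOfBeq h
end H9.HN.TCPC
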