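import Cfsg.Agent.Lib.H9.HN.TCPC.Chk
set_option Elab.async false
set_option autoImplicit false
set_option maxRecDepth 100000
set_option linter.all false
namespace H9.HN.TCPC
open H35.TC
theorem l_7 : cntB liveP 12 28672 = 4049 := by
  have h : Nat.beq (cntB liveP 12 28672) 4049 = true := by decide +kernel
  exact eqOfBeq h
theorem l_8 : cntB liveP 12 32768 = 4084 := by
  have h : Nat.beq (cntB liveP 12 32768) 4084 = true := by decide +kernel
  exact eqOfBeq h
theorem l_9 : cntB liveP 12 36864 = 4094 := by
  have h : Nat.beq (cntB liveP 12 36864) 4094 = true := by decide +kernel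
  exact eqOfBeq h
theorem l_10 : cntB liveP 12 40960 = 1926 := by
  have h : Nat.beq (cntB liveP 12 40960) 1926 = true := by decide +kernel
  exact eqOfBeq h
end H9.HN.TCPC
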