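import Cfsg.Agent.Lib.H9.HN.TCPC.Chk
set_option Elab.async false
set_option autoImplicit false
set_option maxRecDepth 100000
set_option linter.all false
namespace H9.HN.TCPC
open H35.TC
theorem r_0 : allB chkP 10 0 = true := by decide +kernel
theorem r_1 : allB chkP 10 1024 = true := by decide +kernel
theorem r_2 : allB chkP 10 2048 = true := by decide +kernel
theorem r_3 : allB chkP 10 3072 = true := by decide +kernel
theorem r_4 : allB chkP 10 4096 = true := by decide +kernel
theorem r_5 : allB chkP 10 5120 = true := by decide +kernel
theorem r_6 : allB chkP 10 6144 = true := by decide +kernel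
theorem r_7 : allB chkP 10 7168 = true := by decide +kernel
theorem r_8 : allB chkP 10 8192 = true := by decide +kernel
theorem r_9 : allB chkP 10 9216 = true := by decide +kernel
theorem r_10 : allB chkP 10 10240 = true := by decide +kernel
theorem r_11 : allB chkP 10 11264 = true := by decide +kernel
theorem r_12 : allB chkP 10 12288 = true := by decide +kernel
theorem r_13 : allB chkP 10 13312 = true := by decide +kernel
theorem r_14 : allB chkP 10 14336 = true := by decide +kernel
theorem r_15 : allB chkP 10 15360 = true := by decide +kernel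
theorem blk_0 : ∀ u, 0 ≤ u → u < 16384 → chkP u = true := by
  intro u h0 hu
  rcases Nat.lt_or_ge u 1024 with h | h
  · exact allB_spec _ _ _ r_0 u (by omega) (by omega)
  clear h0
  rename' h => h0
  rcases Nat.lt_or_ge u 2048 with h | h
  · exact allB_spec _ _ _ r_1 u (by omega) (by omega)
  clear h0
  rename' h => h0
  rcases Nat.lt_or_ge u 3072 with h | h
  · exact allB_spec _ _ _ r_2 u (by omega) (by omega)
  clear h0
  rename' h => h0
  rcases Nat.lt_or_ge u 4096 with h | h
  · exact allB_spec _ _ _ r_3 u (by omega) (by omega)
  clear h0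
  rename' h => h0
  rcases Nat.lt_or_ge u 5120 with h | h
  · exact allB_spec _ _ _ r_4 u (by omega) (by omega)
  clear h0
  rename' h => h0
  rcases Nat.lt_or_ge u 6144 with h | h
  · exact allB_spec _ _ _ r_5 u (by omega) (by omega)
  clear h0
  rename' h => h0
  rcases Nat.lt_or_ge u 7168 with h | h
  · exact allB_spec _ _ _ r_6 u (by omega) (by omega)
  clear h0
  rename' h => h0
  rcases Nat.lt_or_ge u 8192 with h | h
  · exact allB_spec _ _ _ r_7 u (by omega) (by omega)
  clear h0
  rename' h => h0
  rcases Nat.lt_or_ge u 9216 with h | h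
  · exact allB_spec _ _ _ r_8 u (by omega) (by omega)
  clear h0
  rename' h => h0
  rcases Nat.lt_or_ge u 10240 with h | h
  · exact allB_spec _ _ _ r_9 u (by omega) (by omega)
  clear h0
  rename' h => h0
  rcases Nat.lt_or_ge u 11264 with h | h
  · exact allB_spec _ _ _ r_10 u (by omega) (by omega)
  clear h0
  rename' h => h0
  rcases Nat.lt_or_ge u 12288 with h | h
  · exact allB_spec _ _ _ r_11 u (by omega) (by omega)
  clear h0
  rename' h => h0
  rcases Nat.lt_or_ge u 13312 with h | h
  · exact allB_spec _ _ _ r_12 u (by omega) (by omega)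
  clear h0
  rename' h => h0
  rcases Nat.lt_or_ge u 14336 with h | h
  · exact allB_spec _ _ _ r_13 u (by omega) (by omega)
  clear h0
  rename' h => h0
  rcases Nat.lt_or_ge u 15360 with h | h
  · exact allB_spec _ _ _ r_14 u (by omega) (by omega)
  clear h0
  rename' h => h0
  rcases Nat.lt_or_ge u 16384 with h | h
  · exact allB_spec _ _ _ r_15 u (by omega) (by omega)
  clear h0
  rename' h => h0
  omega
end H9.HN.TCPC
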