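import Cfsg.Agent.Lib.H9.HN.TCPC.Chk
set_option Elab.async false
set_option autoImplicit false
set_option maxRecDepth 100000
set_option linter.all false
namespace H9.HN.TCPC
open H35.TC
theorem r_16 : allB chkP 10 16384 = true := by decide +kernel
theorem r_17 : allB chkP 10 17408 = true := by decide +kernel
theorem r_18 : allB chkP 10 18432 = true := by decide +kernel
theorem r_19 : allB chkP 10 19456 = true := by decide +kernel
theorem r_20 : allB chkP 10 20480 = true := by decide +kernel
theorem r_21 : allB chkP 10 21504 = true := by decide +kernel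
theorem r_22 : allB chkP 10 22528 = true := by decide +kernel
theorem r_23 : allB chkP 10 23552 = true := by decide +kernel
theorem r_24 : allB chkP 10 24576 = true := by decide +kernel
theorem r_25 : allB chkP 10 25600 = true := by decide +kernel
theorem r_26 : allB chkP 10 26624 = true := by decide +kernel
theorem r_27 : allB chkP 10 27648 = true := by decide +kernel
theorem r_28 : allB chkP 10 28672 = true := by decide +kernel
theorem r_29 : allB chkP 10 29696 = true := by decide +kernel
theorem r_30 : allB chkP 10 30720 = true := by decide +kernel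
theorem r_31 : allB chkP 10 31744 = true := by decide +kernel
theorem blk_1 : ∀ u, 16384 ≤ u → u < 32768 → chkP u = true := by
  intro u h0 hu
  rcases Nat.lt_or_ge u 17408 with h | h
  · exact allB_spec _ _ _ r_16 u (by omega) (by omega)
  clear h0
  rename' h => h0
  rcases Nat.lt_or_ge u 18432 with h | h
  · exact allB_spec _ _ _ r_17 u (by omega) (by omega)
  clear h0
  rename' h => h0
  rcases Nat.lt_or_ge u 19456 with h | h
  · exact allB_spec _ _ _ r_18 u (by omega) (by omega)
  clear h0
  rename' h => h0
  rcases Nat.lt_or_ge u 20480 with h | h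
  · exact allB_spec _ _ _ r_19 u (by omega) (by omega)
  clear h0
  rename' h => h0
  rcases Nat.lt_or_ge u 21504 with h | h
  · exact allB_spec _ _ _ r_20 u (by omega) (by omega)
  clear h0
  rename' h => h0
  rcases Nat.lt_or_ge u 22528 with h | h
  · exact allB_spec _ _ _ r_21 u (by omega) (by omega)
  clear h0
  rename' h => h0
  rcases Nat.lt_or_ge u 23552 with h | h
  · exact allB_spec _ _ _ r_22 u (by omega) (by omega)
  clear h0
  rename' h => h0
  rcases Nat.lt_or_ge u 24576 with h | h
  · exact allB_spec _ _ _ r_23 u (by omega) (by omega)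
  clear h0
  rename' h => h0
  rcases Nat.lt_or_ge u 25600 with h | h
  · exact allB_spec _ _ _ r_24 u (by omega) (by omega)
  clear h0
  rename' h => h0
  rcases Nat.lt_or_ge u 26624 with h | h
  · exact allB_spec _ _ _ r_25 u (by omega) (by omega)
  clear h0
  rename' h => h0
  rcases Nat.lt_or_ge u 27648 with h | h
  · exact allB_spec _ _ _ r_26 u (by omega) (by omega)
  clear h0
  rename' h => h0
  rcases Nat.lt_or_ge u 28672 with h | h
  · exact allB_spec _ _ _ r_27 u (by omega) (by omega)
  clear h0
  rename' h => h0
  rcases Nat.lt_or_ge u 29696 with h | h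
  · exact allB_spec _ _ _ r_28 u (by omega) (by omega)
  clear h0
  rename' h => h0
  rcases Nat.lt_or_ge u 30720 with h | h
  · exact allB_spec _ _ _ r_29 u (by omega) (by omega)
  clear h0
  rename' h => h0
  rcases Nat.lt_or_ge u 31744 with h | h
  · exact allB_spec _ _ _ r_30 u (by omega) (by omega)
  clear h0
  rename' h => h0
  rcases Nat.lt_or_ge u 32768 with h | h
  · exact allB_spec _ _ _ r_31 u (by omega) (by omega)
  clear h0
  rename' h => h0
  omega
end H9.HN.TCPC
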